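import Groth.Agent.EtFound.ClosedSupp
import Groth.Agent.RpushCop.Etale

/-! Coproducts of sheaves on closed points of a scheme over a separably closed field are acyclic. -/

set_option backward.isDefEq.respectTransparency false
set_option backward.isDefEq.respectTransparency.types false

universe u

open CategoryTheory CategoryTheory.Limits AlgebraicGeometry Opposite

namespace Groth.Agent.EtSky

theorem preservesCoproducts_HF (X : Scheme.{u}) [CompactSpace X] [QuasiSeparatedSpace X] (n : ℕ) (ι : Type u) :
    PreservesColimitsOfShape (Discrete ι) (EtCoh.HF X n) := by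
  haveI := EtLC12.QcqsAcyclic.preservesColimitsOfShape_HF X n (Finset (Discrete (ULift.{u + 1} ι)))
  haveI : (EtCoh.HF X n).Additive := DCoh.additive_HF X n
  haveI := RpushCop.preservesColimitsOfShape_discrete_of_finset (EtCoh.HF X n) (ULift.{u + 1} ι)
  exact preservesColimitsOfShape_of_equiv (Discrete.equivalence Equiv.ulift) _

theorem subsingleton_H_cofan {K : Type u} [Field K] [IsSepClosed K] {X : Scheme.{u}} [CompactSpace X]
    [QuasiSeparatedSpace X] (a : X ⟶ Spec (CommRingCat.of K)) [LocallyOfFiniteType a]
    (G : ∀ x : {x : X // IsClosed ({x} : Set X)}, EtCoh.Ab (Spec (X.residueField x.1)))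
    (c : Cofan fun x : {x : X // IsClosed ({x} : Set X)} => (EtCoh.push (X.fromSpecResidueField x.1)).obj (G x))
    (hc : IsColimit c) (q : ℕ) : Subsingleton (EtCoh.H X c.pt (q + 1)) := by
  haveI := preservesCoproducts_HF X (q + 1) {x : X // IsClosed ({x} : Set X)}
  let hc' := isColimitOfPreserves (EtCoh.HF X (q + 1)) hc
  haveI hsub : ∀ x : {x : X // IsClosed ({x} : Set X)},
      Subsingleton (EtCoh.H X ((EtCoh.push (X.fromSpecResidueField x.1)).obj (G x)) (q + 1)) := fun x => by
    haveI := AlgSpDec.isClosedImmersion_fromSpecResidueField x.2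
    haveI : IsSepClosed (X.residueField x.1) := by
      obtain ⟨φ, hφ⟩ := Spec.map_surjective (X.fromSpecResidueField x.1 ≫ a)
      have hft : φ.hom.FiniteType := by
        rw [← HasRingHomProperty.Spec_iff (P := @LocallyOfFiniteType), hφ]
        infer_instance
      algebraize [φ.hom]
      haveI : Module.Finite K (X.residueField x.1) := finite_of_finite_type_of_isJacobsonRing _ _
      exact Algebra.IsAlgebraic.isSepClosed (F := K)
    exact EtFound.ClosedSupp.subsingleton_H_push (k := X.residueField x.1) (X.fromSpecResidueField x.1) q (G x)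
  refine AddCommGrpCat.subsingleton_of_isZero (G := (EtCoh.HF X (q + 1)).obj c.pt) ?_
  refine (IsZero.iff_id_eq_zero _).2 (hc'.hom_ext fun ⟨x⟩ => ?_)
  exact (@AddCommGrpCat.isZero_of_subsingleton _ (hsub x)).eq_of_src _ _

end Groth.Agent.EtSky
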